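import Cfsg.Agent.H357.CV.Tool
import Cfsg.Agent.H548.CV.Eig
import Cfsg.Agent.Sigma.Symp
import Cfsg.Agent.S0270
import Cfsg.Agent.LieClassical.SympCount

/-!
# S3442: `PSp_4(q)`, `PSp_8(q)`, `q` even, `r = 2` (helper272)

`2 m = 2 ^ (a + 1)`: the subgroup `3 ^ m : C_(2m)` of `Sp_2(2) ≀ S_m` is a Frobenius group; `4 m` is no element order.
-/

set_option autoImplicit false
set_option linter.unusedSectionVars false

namespace Cfsg.Agent.H272.CV

open Matrix Cfsg.Agent.H373.CV Cfsg.Agent.H357.CV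

universe u v

variable {F : Type v} [Field F] {m : ℕ}

/-- block sum of `2 × 2` matrices -/
def tm (A : Fin m → Matrix (Fin 2) (Fin 2) F) : Matrix (Fin m ⊕ Fin m) (Fin m ⊕ Fin m) F :=
  fromBlocks (diagonal fun i => A i 0 0) (diagonal fun i => A i 0 1) (diagonal fun i => A i 1 0) (diagonal fun i => A i 1 1)

theorem tm_mul (A B : Fin m → Matrix (Fin 2) (Fin 2) F) : tm (fun i => A i * B i) = tm A * tm B := by
  simp only [tm, fromBlocks_multiply, Matrix.mul_apply, Fin.sum_univ_two, diagonal_mul_diagonal, diagonal_add]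

theorem tm_one : tm (fun _ : Fin m => (1 : Matrix (Fin 2) (Fin 2) F)) = 1 := by
  simp [tm]

theorem tm_mem (A : Fin m → SpecialLinearGroup (Fin 2) F) :
    tm (fun i => (A i : Matrix (Fin 2) (Fin 2) F)) ∈ symplecticGroup (Fin m) F := by
  have h : ∀ i, (A i).1 0 0 * (A i).1 1 1 - (A i).1 0 1 * (A i).1 1 0 = 1 := fun i => by
    rw [← det_fin_two]; exact (A i).2
  rw [tm, SymplecticGroup.fromBlocks_mem_iff]
  refine ⟨?_, ?_, ?_⟩
  · simp [diagonal_transpose, diagonal_mul_diagonal, mul_comm]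
  · simp [diagonal_transpose, diagonal_mul_diagonal, mul_comm]
  · rw [diagonal_transpose, diagonal_transpose, diagonal_mul_diagonal,
      diagonal_mul_diagonal, diagonal_sub, ← diagonal_one]
    congr 1
    funext i
    linear_combination h i

/-- the homomorphism from `SL₂ ^ m` -/
def tHom (m : ℕ) (F : Type v) [Field F] : (Fin m → SpecialLinearGroup (Fin 2) F) →* symplecticGroup (Fin m) F where
  toFun A := ⟨tm fun i => (A i : Matrix (Fin 2) (Fin 2) F), tm_mem A⟩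
  map_one' := Subtype.ext (by
    change tm (fun i => ((1 : Fin m → SpecialLinearGroup (Fin 2) F) i : Matrix (Fin 2) (Fin 2) F)) = 1
    simp only [Pi.one_apply]
    exact tm_one)
  map_mul' A B := Subtype.ext (by
    change tm (fun i => ((A * B) i : Matrix (Fin 2) (Fin 2) F)) = tm _ * tm _
    simp only [Pi.mul_apply]
    exact tm_mul _ _)

theorem tHom_inj : Function.Injective (tHom m F) := by
  intro A B h
  funext i
  apply Subtype.ext
  obtain ⟨h1, h2, h3, h4⟩ := fromBlocks_inj.1 (congrArg Subtype.val h)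
  ext k l
  fin_cases k <;> fin_cases l
  · exact congrFun (diagonal_injective h1) i
  · exact congrFun (diagonal_injective h2) i
  · exact congrFun (diagonal_injective h3) i
  · exact congrFun (diagonal_injective h4) i

/-- permutation matrices -/
def pm (m : ℕ) (F : Type v) [Field F] : Equiv.Perm (Fin m) →* symplecticGroup (Fin m) F where
  toFun σ := ⟨fromBlocks (permMatrixHom σ) 0 0 (permMatrixHom σ), by
    rw [SymplecticGroup.fromBlocks_mem_iff]
    have h : (permMatrixHom σ : Matrix (Fin m) (Fin m) F)ᵀ * permMatrixHom σ = 1 := by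
      show (Equiv.Perm.permMatrix F σ⁻¹)ᵀ * Equiv.Perm.permMatrix F σ⁻¹ = 1
      rw [transpose_permMatrix, ← permMatrix_mul, inv_inv, inv_mul_cancel, permMatrix_one]
    refine ⟨?_, ?_, ?_⟩
    · rw [Matrix.transpose_zero, Matrix.zero_mul, Matrix.mul_zero]
    · rw [Matrix.transpose_zero, Matrix.zero_mul, Matrix.mul_zero]
    · rw [h, Matrix.mul_zero, sub_zero]⟩
  map_one' := by
    apply Subtype.ext
    show fromBlocks _ _ _ _ = (1 : Matrix _ _ F)
    rw [map_one, fromBlocks_one]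
  map_mul' σ τ := by
    apply Subtype.ext
    show fromBlocks _ _ _ _ = fromBlocks _ _ _ _ * fromBlocks _ _ _ _
    rw [fromBlocks_multiply, map_mul]
    simp

theorem perm_diag (σ : Equiv.Perm (Fin m)) (d : Fin m → F) :
    (permMatrixHom σ : Matrix (Fin m) (Fin m) F) * diagonal d = diagonal (d ∘ (σ⁻¹ : Equiv.Perm (Fin m))) * permMatrixHom σ := by
  ext i j
  rw [mul_diagonal, diagonal_mul]
  show (Equiv.Perm.permMatrix F σ⁻¹) i j * d j = d ((σ⁻¹ : Equiv.Perm (Fin m)) i) * (Equiv.Perm.permMatrix F σ⁻¹) i j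
  rw [Equiv.Perm.permMatrix, PEquiv.toMatrix_apply]
  by_cases h : (σ⁻¹ : Equiv.Perm (Fin m)) i = j
  · rw [h, mul_comm]
  · rw [if_neg, zero_mul, mul_zero]
    intro h1
    exact h (by simpa [Equiv.toPEquiv] using h1)

theorem pm_tHom (σ : Equiv.Perm (Fin m)) (A : Fin m → SpecialLinearGroup (Fin 2) F) :
    pm m F σ * tHom m F A = tHom m F (A ∘ (σ⁻¹ : Equiv.Perm (Fin m))) * pm m F σ := by
  apply Subtype.ext
  show fromBlocks _ _ _ _ * fromBlocks _ _ _ _ = fromBlocks _ _ _ _ * fromBlocks _ _ _ _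
  rw [fromBlocks_multiply, fromBlocks_multiply]
  simp only [Matrix.zero_mul, Matrix.mul_zero, add_zero, zero_add, perm_diag]
  rfl

/-- the powers of `tHom e * pm σ` -/
def gk (σ : Equiv.Perm (Fin m)) (e : Fin m → SpecialLinearGroup (Fin 2) F) : ℕ → Fin m → SpecialLinearGroup (Fin 2) F
  | 0 => 1
  | k + 1 => e * (gk σ e k ∘ (σ⁻¹ : Equiv.Perm (Fin m)))

theorem pow_eq (σ : Equiv.Perm (Fin m)) (e : Fin m → SpecialLinearGroup (Fin 2) F) (k : ℕ) :
    (tHom m F e * pm m F σ) ^ k = tHom m F (gk σ e k) * pm m F (σ ^ k) := by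
  induction k with
  | zero => rw [pow_zero, pow_zero, gk, map_one, map_one, one_mul]
  | succ k ih =>
    rw [pow_succ', ih, gk, map_mul, pow_succ' σ, map_mul, mul_assoc, ← mul_assoc (pm m F σ), pm_tHom, mul_assoc, mul_assoc]

section Two

variable [CharP F 2]

/-- the element of order 3 -/
def x3 (F : Type v) [Field F] [CharP F 2] : SpecialLinearGroup (Fin 2) F :=
  ⟨!![0, 1; 1, 1], by rw [det_fin_two_of, zero_mul, one_mul, zero_sub, CharTwo.neg_eq]⟩

/-- the involution -/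
def w2 (F : Type v) [Field F] [CharP F 2] : SpecialLinearGroup (Fin 2) F :=
  ⟨!![0, 1; 1, 0], by rw [det_fin_two_of, zero_mul, one_mul, zero_sub, CharTwo.neg_eq]⟩

theorem x3_cube : x3 F ^ 3 = 1 := by
  apply Subtype.ext
  show !![0, 1; 1, 1] ^ 3 = (1 : Matrix (Fin 2) (Fin 2) F)
  rw [pow_succ, pow_two, mul_fin_two, mul_fin_two, one_fin_two]
  simp [CharTwo.add_self_eq_zero]

theorem x3_ne : x3 F ≠ 1 := by
  intro h
  have h1 := congrFun (congrFun (congrArg Subtype.val h) 0) 0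
  simp [x3] at h1

theorem w2_sq : w2 F * w2 F = 1 := by
  apply Subtype.ext
  show !![0, 1; 1, 0] * !![0, 1; 1, 0] = (1 : Matrix (Fin 2) (Fin 2) F)
  rw [mul_fin_two, one_fin_two]
  simp

theorem w2_ne : w2 F ≠ 1 := by
  intro h
  have h1 := congrFun (congrFun (congrArg Subtype.val h) 0) 0
  simp [w2] at h1

theorem w2_x3 : w2 F * x3 F * (w2 F)⁻¹ = (x3 F)⁻¹ := by
  rw [eq_inv_iff_mul_eq_one, inv_eq_of_mul_eq_one_left w2_sq]
  apply Subtype.ext
  show !![0, 1; 1, 0] * !![0, 1; 1, 1] * !![0, 1; 1, 0] * !![0, 1; 1, 1] = (1 : Matrix (Fin 2) (Fin 2) F)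
  rw [mul_fin_two, mul_fin_two, mul_fin_two, one_fin_two]
  simp [CharTwo.add_self_eq_zero]

theorem w2_zpow {z : SpecialLinearGroup (Fin 2) F} (hz : z ∈ Subgroup.zpowers (x3 F)) : w2 F * z * (w2 F)⁻¹ = z⁻¹ := by
  obtain ⟨k, rfl⟩ := Subgroup.mem_zpowers_iff.1 hz
  rw [← conj_zpow, w2_x3, _root_.inv_zpow]

theorem pow_two_pow [Fintype F] {a : ℕ} (hm : 2 * m = 2 ^ (a + 1)) {y : symplecticGroup (Fin m) F} {N : ℕ}
    (hy : y ^ 2 ^ N = 1) : y ^ 2 ^ (a + 1) = 1 := by
  apply Subtype.ext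
  have h1 : (y : Matrix (Fin m ⊕ Fin m) (Fin m ⊕ Fin m) F) ^ 2 ^ N = 1 := by
    rw [← SubmonoidClass.coe_pow, hy]
    rfl
  show ((y ^ 2 ^ (a + 1) : symplecticGroup (Fin m) F) : Matrix (Fin m ⊕ Fin m) (Fin m ⊕ Fin m) F) = 1
  rw [SubmonoidClass.coe_pow]
  set A := (y : Matrix (Fin m ⊕ Fin m) (Fin m ⊕ Fin m) F) with hA
  have : CharP (Matrix (Fin m ⊕ Fin m) (Fin m ⊕ Fin m) F) 2 := by
    have hm0 : 0 < m := by
      have := Nat.pow_pos (n := a + 1) (show 0 < 2 by norm_num)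
      omega
    have : Nonempty (Fin m ⊕ Fin m) := ⟨Sum.inl ⟨0, hm0⟩⟩
    infer_instance
  have h2 : IsNilpotent (A - 1) := ⟨2 ^ N, by
    rw [sub_pow_char_pow_of_commute 2 N (Commute.one_right A), one_pow, h1, sub_self]⟩
  have h3 : (A - 1) ^ Fintype.card (Fin m ⊕ Fin m) = 0 := by
    have h4 : (A - 1).charpoly = Polynomial.X ^ Fintype.card (Fin m ⊕ Fin m) := by
      have := isNilpotent_charpoly_sub_pow_of_isNilpotent h2
      exact sub_eq_zero.1 (this.eq_zero)
    have h5 := Matrix.aeval_self_charpoly (A - 1)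
    rwa [h4, map_pow, Polynomial.aeval_X] at h5
  have h4 : Fintype.card (Fin m ⊕ Fin m) = 2 ^ (a + 1) := by
    rw [Fintype.card_sum, Fintype.card_fin, ← hm]
    ring
  rw [h4, sub_pow_char_pow_of_commute 2 (a + 1) (Commute.one_right A), one_pow, sub_eq_zero] at h3
  exact h3

/-- **the Frobenius group** -/
theorem hit_two_aux [Fintype F] (hs : IsSimpleGroup (symplecticGroup (Fin m) F)) {a : ℕ} (hm : 2 * m = 2 ^ (a + 1))
    (hT : ∃ x : symplecticGroup (Fin m) F, ¬ 2 ∣ orderOf x ∧ ∀ y : symplecticGroup (Fin m) F, orderOf y ≠ 2 * orderOf x)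
    {σ : Equiv.Perm (Fin m)} {e : Fin m → SpecialLinearGroup (Fin 2) F} (he : ∀ i, e i = 1 ∨ e i = w2 F)
    (hσ : σ ^ m = 1) (hg : gk σ e m = fun _ => w2 F) : Hit.{u, v} 2 (symplecticGroup (Fin m) F) := by
  classical
  have hfin : Finite (symplecticGroup (Fin m) F) := inferInstance
  have hm' : m = 2 ^ a := by
    rw [pow_succ] at hm
    omega
  have hm0 : 0 < m := by rw [hm']; positivity
  have hf2 : Fact (Nat.Prime 2) := ⟨Nat.prime_two⟩
  set c := tHom m F e * pm m F σ with hc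
  set z := tHom m F (fun _ => w2 F) with hz
  have hcm : c ^ 2 ^ a = z := by
    rw [← hm', hc, pow_eq, hσ, hg, map_one, mul_one]
  have hz2 : z * z = 1 := by
    rw [hz, ← map_mul]
    have : ((fun _ => w2 F) * (fun _ => w2 F) : Fin m → SpecialLinearGroup (Fin 2) F) = 1 := by
      funext i
      exact w2_sq
    rw [this, map_one]
  have hz1 : z ≠ 1 := by
    intro h
    have h1 := tHom_inj (h.trans (map_one _).symm)
    exact w2_ne (congrFun h1 ⟨0, hm0⟩)
  have hco : orderOf c = 2 ^ (a + 1) := by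
    refine orderOf_eq_prime_pow (by rw [hcm]; exact hz1) ?_
    rw [pow_succ, pow_mul, hcm, pow_two, hz2]
  set U : Subgroup (symplecticGroup (Fin m) F) :=
    (Subgroup.pi Set.univ fun _ : Fin m => Subgroup.zpowers (x3 F)).map (tHom m F) with hU
  have hU3 : ∀ b ∈ U, b ^ 3 = 1 := by
    rintro _ ⟨f, hf, rfl⟩
    rw [← map_pow]
    have : f ^ 3 = 1 := by
      funext i
      obtain ⟨k, hk⟩ := Subgroup.mem_zpowers_iff.1 (hf i (Set.mem_univ i))
      show f i ^ 3 = 1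
      rw [← hk, ← _root_.zpow_natCast, ← _root_.zpow_mul, mul_comm, _root_.zpow_mul, _root_.zpow_natCast, x3_cube, _root_.one_zpow]
    rw [this, map_one]
  have hUz : ∀ b ∈ U, z * b * z⁻¹ = b⁻¹ := by
    rintro _ ⟨f, hf, rfl⟩
    rw [hz, ← map_inv, ← map_inv, ← map_mul, ← map_mul]
    congr 1
    funext i
    exact w2_zpow (hf i (Set.mem_univ i))
  refine hit_of_frob Nat.prime_two hT U ?_ ?_ c ?_ ?_ ?_
  · intro h
    have h1 : tHom m F (fun _ => x3 F) ∈ U := ⟨_, fun i _ => Subgroup.mem_zpowers _, rfl⟩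
    rw [h, Subgroup.mem_bot] at h1
    have h2 := tHom_inj (h1.trans (map_one _).symm)
    exact x3_ne (congrFun h2 ⟨0, hm0⟩)
  · intro h
    obtain ⟨b, hb⟩ := exists_prime_orderOf_dvd_card' (G := U) 2 h
    have h1 : b ^ 3 = 1 := Subtype.ext (hU3 b.1 b.2)
    have h2 := orderOf_dvd_of_pow_eq_one h1
    rw [hb] at h2
    norm_num at h2
  · rintro _ ⟨f, hf, rfl⟩
    refine ⟨e * (f ∘ (σ⁻¹ : Equiv.Perm (Fin m))) * e⁻¹, fun i _ => ?_, ?_⟩
    · show e i * f ((σ⁻¹ : Equiv.Perm (Fin m)) i) * (e i)⁻¹ ∈ _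
      have h1 : f ((σ⁻¹ : Equiv.Perm (Fin m)) i) ∈ Subgroup.zpowers (x3 F) := hf _ (Set.mem_univ _)
      rcases he i with h | h
      · rw [h, one_mul, inv_one, mul_one]
        exact h1
      · rw [h, w2_zpow h1]
        exact inv_mem h1
    · rw [eq_mul_inv_iff_mul_eq, hc, map_mul, map_mul, map_inv, mul_assoc (tHom m F e) (pm m F σ), pm_tHom]
      group
  · intro i hi b hb hcb
    -- `z` is a power of `c ^ i`
    obtain ⟨k, hk⟩ : ∃ k : ℕ, (c ^ i) ^ k = z := by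
      have hi0 : i ≠ 0 := by
        rintro rfl
        exact hi (pow_zero c)
      obtain ⟨f, o, ho, hio⟩ := Nat.exists_eq_pow_mul_and_not_dvd hi0 2 (by norm_num)
      have hfa : f ≤ a := by
        by_contra hcon
        apply hi
        rw [hio, ← orderOf_dvd_iff_pow_eq_one, hco]
        exact (pow_dvd_pow 2 (by omega)).mul_right o
      refine ⟨2 ^ (a - f), ?_⟩
      rw [← pow_mul, hio]
      have h1 : 2 ^ f * o * 2 ^ (a - f) = 2 ^ a * o := by
        rw [mul_right_comm, ← pow_add, Nat.add_sub_cancel' hfa]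
      rw [h1, pow_mul, hcm]
      obtain ⟨j, rfl⟩ : ∃ j, o = 2 * j + 1 := ⟨o / 2, by omega⟩
      rw [pow_succ, pow_mul, pow_two, hz2, one_pow, one_mul]
    have h1 : Commute (c ^ i) b := hcb
    have h2 : Commute z b := by rw [← hk]; exact h1.pow_left k
    have h3 := hUz b hb
    rw [h2.eq, mul_inv_cancel_right] at h3
    have h4 : b ^ 2 = 1 := by
      rw [pow_two]
      nth_rw 1 [h3]
      exact inv_mul_cancel b
    have h5 := hU3 b hb
    rwa [pow_succ, h4, one_mul] at h5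
  · intro y hy
    rw [hco, ← pow_succ'] at hy
    have h1 : y ^ 2 ^ (a + 2) = 1 := by rw [← hy, pow_orderOf_eq_one]
    have h2 := orderOf_dvd_of_pow_eq_one (pow_two_pow hm h1)
    rw [hy] at h2
    have h3 := Nat.le_of_dvd (by positivity) h2
    have h4 : 2 ^ (a + 1) < 2 ^ (a + 1 + 1) := Nat.pow_lt_pow_right (by norm_num) (by omega)
    omega

/-- the trivial module -/
theorem exists_triv [Fintype F] {a : ℕ} (hm : m = 2 ^ a) :
    ∃ x : symplecticGroup (Fin m) F, ¬ 2 ∣ orderOf x ∧ ∀ y : symplecticGroup (Fin m) F, orderOf y ≠ 2 * orderOf x := by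
  classical
  set q := Fintype.card F with hq
  obtain ⟨n, -, hn⟩ := FiniteField.card F 2
  have hn' : q = 2 ^ (n : ℕ) := hn
  have hqe : Even q := by
    rw [hn']
    exact (Nat.even_pow.2 ⟨even_two, n.ne_zero⟩)
  have hq1 : 1 < q := Fintype.one_lt_card
  have hm0 : m ≠ 0 := by rw [hm]; positivity
  have hodd : Odd (q ^ m + 1) := (hqe.pow_of_ne_zero hm0).add_one
  have hqm : 1 < q ^ m := Nat.one_lt_pow hm0 hq1
  obtain ⟨R, hR, hRd⟩ := Nat.exists_prime_and_dvd (n := q ^ m + 1) (by omega)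
  have hR2 : R ≠ 2 := by
    rintro rfl
    exact (Nat.not_even_iff_odd.2 hodd) (even_iff_two_dvd.2 hRd)
  have hR3 : ¬ R ∣ q ^ m - 1 := by
    intro h
    have h4 := Nat.dvd_sub hRd h
    have h5 : q ^ m + 1 - (q ^ m - 1) = 2 := by omega
    rw [h5] at h4
    exact hR2 ((Nat.prime_dvd_prime_iff_eq hR Nat.prime_two).1 h4)
  have hRF : (R : F) ≠ 0 := by
    intro h
    rw [CharP.cast_eq_zero_iff F 2] at h
    exact hR2 ((Nat.prime_dvd_prime_iff_eq Nat.prime_two hR).1 h).symm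
  have hfac : q ^ (2 * m) - 1 = (q ^ m - 1) * (q ^ m + 1) := by
    obtain ⟨c, hc⟩ : ∃ c, q ^ m = c + 1 := ⟨q ^ m - 1, by omega⟩
    rw [two_mul, pow_add, hc]
    have : (c + 1) * (c + 1) = c * (c + 1 + 1) + 1 := by ring
    rw [this, Nat.add_sub_cancel, Nat.add_sub_cancel]
  have hR1 : ∀ e, 1 ≤ e → e < m → ¬ R ∣ q ^ (2 * e) - 1 := by
    intro e he1 he2 h
    apply hR3
    have h1 : R ∣ q ^ (Nat.gcd (2 * e) (2 * m)) - 1 := by
      rw [← Nat.pow_sub_one_gcd_pow_sub_one]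
      exact Nat.dvd_gcd h (by rw [hfac]; exact hRd.mul_left _)
    have h2 : Nat.gcd (2 * e) (2 * m) ∣ m := by
      have h3 : Nat.gcd (2 * e) (2 * m) ∣ 2 ^ (a + 1) := by
        rw [pow_succ', ← hm]
        exact Nat.gcd_dvd_right _ _
      obtain ⟨f, hf, hf'⟩ := (Nat.dvd_prime_pow Nat.prime_two).1 h3
      have h4 : f ≤ a := by
        by_contra hcon
        have h5 : f = a + 1 := by omega
        have h6 := Nat.le_of_dvd (by omega) (Nat.gcd_dvd_left (2 * e) (2 * m))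
        rw [hf', h5, pow_succ, ← hm] at h6
        omega
      rw [hf', hm]
      exact pow_dvd_pow 2 h4
    exact h1.trans (Nat.pow_sub_one_dvd_pow_sub_one q h2)
  have := Fact.mk hR
  obtain ⟨x, hx⟩ := exists_prime_orderOf_dvd_card' (G := symplecticGroup (Fin m) F) R (by
    rw [LieClassical.SympCount.card_symplecticGroup, ← hq]
    have h1 : q ^ (2 * (m - 1 + 1)) - 1 ∣ ∏ i ∈ Finset.range m, (q ^ (2 * (i + 1)) - 1) :=
      Finset.dvd_prod_of_mem (fun i => q ^ (2 * (i + 1)) - 1) (Finset.mem_range.2 (by omega))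
    rw [Nat.sub_add_cancel (by omega), hfac] at h1
    exact ((hRd.mul_left _).trans h1).mul_left _)
  refine ⟨x, ?_, fun y hy => ?_⟩
  · rw [hx]
    intro h
    exact hR2 ((Nat.prime_dvd_prime_iff_eq Nat.prime_two hR).1 h).symm
  · rw [hx] at hy
    have h1 := H548.CV.dvd_of_primitive hR hR2 hRF hR1 hR3 y (orderOf_pos y) (by rw [hy]; exact Dvd.intro_left 2 rfl)
    rw [hy] at h1
    exact (Nat.not_even_iff_odd.2 hodd) (even_iff_two_dvd.2 ((Dvd.intro R rfl).trans h1))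

theorem hit_psp_aux [Fintype F] {a : ℕ} (hm : m = 2 ^ a) (ha : 1 ≤ a) (h2 : m = 2 → 2 < Fintype.card F)
    {σ : Equiv.Perm (Fin m)} {e : Fin m → SpecialLinearGroup (Fin 2) F} (he : ∀ i, e i = 1 ∨ e i = w2 F)
    (hσ : σ ^ m = 1) (hg : gk σ e m = fun _ => w2 F) : Hit.{u, v} 2 (PSp m F) := by
  classical
  have hm2 : 2 ≤ m := by
    rw [hm]
    calc 2 = 2 ^ 1 := by norm_num
      _ ≤ 2 ^ a := Nat.pow_le_pow_right (by norm_num) ha
  let ε : PSp m F ≃* symplecticGroup (Fin m) F :=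
    (QuotientGroup.quotientMulEquivOfEq (Sigma.Symp.center_eq_bot (F := F) (m := m) (by omega))).trans
      QuotientGroup.quotientBot
  have hsim0 : IsSimpleGroup (PSp m F) := S0270.result m hm2 h2
  have hnt : Nontrivial (symplecticGroup (Fin m) F) := ε.toEquiv.symm.nontrivial
  have hsim : IsSimpleGroup (symplecticGroup (Fin m) F) :=
    IsSimpleGroup.isSimpleGroup_of_surjective ε.toMonoidHom ε.surjective
  exact (hit_two_aux hsim (by rw [hm, pow_succ']) (exists_triv hm) he hσ hg).congr ε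

end Two

/-- **`PSp_4(q)`, `q > 2` even, `r = 2`.** -/
theorem hit_psp2_two {F : Type v} [Field F] [Fintype F] [CharP F 2] (hq : 2 < Fintype.card F) :
    Hit.{u, v} 2 (PSp 2 F) := by
  refine hit_psp_aux (a := 1) (by norm_num) le_rfl (fun _ => hq) (σ := Equiv.swap 0 1) (e := ![w2 F, 1]) ?_ ?_ ?_
  · intro i
    fin_cases i
    · exact Or.inr rfl
    · exact Or.inl rfl
  · rw [pow_two, Equiv.swap_mul_self]
  · have h0 : (Equiv.swap (0 : Fin 2) 1)⁻¹ 0 = 1 := by decide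
    have h1 : (Equiv.swap (0 : Fin 2) 1)⁻¹ 1 = 0 := by decide
    funext i
    fin_cases i
    · show ![w2 F, 1] 0 * (![w2 F, 1] ((Equiv.swap (0 : Fin 2) 1)⁻¹ 0) * 1) = w2 F
      rw [h0, mul_one]
      exact mul_one (w2 F)
    · show ![w2 F, 1] 1 * (![w2 F, 1] ((Equiv.swap (0 : Fin 2) 1)⁻¹ 1) * 1) = w2 F
      rw [h1, mul_one]
      exact one_mul (w2 F)

/-- **`PSp_8(q)`, `q` even, `r = 2`.** -/
theorem hit_psp4_two {F : Type v} [Field F] [Fintype F] [CharP F 2] : Hit.{u, v} 2 (PSp 4 F) := by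
  refine hit_psp_aux (a := 2) (by norm_num) (by norm_num) (fun h => absurd h (by norm_num)) (σ := finRotate 4)
    (e := ![w2 F, 1, 1, 1]) ?_ ?_ ?_
  · intro i
    fin_cases i
    · exact Or.inr rfl
    · exact Or.inl rfl
    · exact Or.inl rfl
    · exact Or.inl rfl
  · decide
  · have h : ∀ i : Fin 4, (finRotate 4)⁻¹ i = ![3, 0, 1, 2] i := by decide
    have h0 : (finRotate 4)⁻¹ 0 = 3 := h 0
    have h1 : (finRotate 4)⁻¹ 1 = 0 := h 1
    have h2 : (finRotate 4)⁻¹ 2 = 1 := h 2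
    have h3 : (finRotate 4)⁻¹ 3 = 2 := h 3
    have key : ∀ i : Fin 4, gk (finRotate 4) ![w2 F, 1, 1, 1] 4 i = ![w2 F, 1, 1, 1] i *
        (![w2 F, 1, 1, 1] ((finRotate 4)⁻¹ i) * (![w2 F, 1, 1, 1] ((finRotate 4)⁻¹ ((finRotate 4)⁻¹ i)) *
          (![w2 F, 1, 1, 1] ((finRotate 4)⁻¹ ((finRotate 4)⁻¹ ((finRotate 4)⁻¹ i))) * 1))) := fun i => rfl
    have e0 : (![w2 F, 1, 1, 1] : Fin 4 → SpecialLinearGroup (Fin 2) F) 0 = w2 F := rfl
    have e1 : (![w2 F, 1, 1, 1] : Fin 4 → SpecialLinearGroup (Fin 2) F) 1 = 1 := rfl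
    have e2 : (![w2 F, 1, 1, 1] : Fin 4 → SpecialLinearGroup (Fin 2) F) 2 = 1 := rfl
    have e3 : (![w2 F, 1, 1, 1] : Fin 4 → SpecialLinearGroup (Fin 2) F) 3 = 1 := rfl
    funext i
    rw [key]
    have hi : i = 0 ∨ i = 1 ∨ i = 2 ∨ i = 3 := by omega
    rcases hi with rfl | rfl | rfl | rfl
    · rw [h0, h3, h2, e0, e1, e2, e3, mul_one, mul_one, mul_one, mul_one]
    · rw [h1, h0, h3, e0, e1, e2, e3, mul_one, mul_one, mul_one, one_mul]
    · rw [h2, h1, h0, e0, e1, e2, e3, mul_one, mul_one, one_mul, one_mul]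
    · rw [h3, h2, h1, e0, e1, e2, e3, mul_one, one_mul, one_mul, one_mul]

end Cfsg.Agent.H272.CV
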